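import Groth.Agent.S2116
import Groth.Agent.RegLocLib.AffineDim

/-!
An affine normal domain of dimension one over an algebraically closed field is smooth.
-/

set_option autoImplicit false
set_option linter.style.haveILetI false
universe u

open CategoryTheory AlgebraicGeometry

namespace Groth.Agent.GeomSmoothingLib

variable (k C : Type u) [Field k] [IsAlgClosed k] [CommRing C] [IsDomain C] [Algebra k C] [Algebra.FiniteType k C]

/-- A normal affine curve: dimension one and smooth. -/
theorem dim_and_smooth [IsIntegrallyClosed C] (c : Ideal C) [c.IsMaximal] (hc : c.height = 1) :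
    ringKrullDim C = 1 ∧ Algebra.Smooth k C := by
  haveI : IsNoetherianRing C := Algebra.FiniteType.isNoetherianRing k C
  haveI : Algebra.FinitePresentation k C := Algebra.FinitePresentation.of_finiteType.1 inferInstance
  obtain ⟨n, -, hdim, hm⟩ := RegLocLib.affine_domain_dim k C
  have hn : ringKrullDim C = 1 := by
    rw [hdim, ← hm c, IsLocalization.AtPrime.ringKrullDim_eq_height c, hc]
    rfl
  haveI : Ring.DimensionLEOne C := ⟨fun {p} hp0 hp => by
    haveI := hp
    obtain ⟨M, hM, hpM⟩ := Ideal.exists_le_maximal p hp.ne_top
    rcases hpM.lt_or_eq with h | h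
    · exfalso
      haveI := hM.isPrime
      haveI : (⊥ : Ideal C).IsPrime := Ideal.isPrime_bot
      have h1 := Ideal.height_strict_mono_of_isPrime (show (⊥ : Ideal C) < p from bot_lt_iff_ne_bot.2 hp0)
      have h2 := Ideal.height_strict_mono_of_isPrime h
      have h3 : (M.height : WithBot ℕ∞) = 1 := by
        rw [← IsLocalization.AtPrime.ringKrullDim_eq_height M (Localization.AtPrime M), hm M, ← hdim, hn]
      have h4 : M.height = 1 := by exact_mod_cast h3
      have h5 : p.height = 0 := Order.lt_one_iff_nonpos.1 (h4 ▸ h2) |>.antisymm bot_le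
      rw [h5] at h1
      exact absurd h1 not_lt_zero
    · exact h ▸ hM⟩
  haveI : IsDedekindDomain C := {}
  refine ⟨hn, ?_⟩
  have key : Algebra.smoothLocus k C = Set.univ := by
    refine Set.eq_univ_of_forall fun q => ?_
    obtain ⟨M, hM, hqM⟩ := Ideal.exists_le_maximal q.asIdeal q.isPrime.ne_top
    haveI := hM
    haveI := hM.isPrime
    have hreg : IsRegularLocalRing (Localization.AtPrime M) := by
      rcases eq_or_ne M ⊥ with h | h
      · exfalso
        have h0 := hm M
        rw [IsLocalization.AtPrime.ringKrullDim_eq_height M, h, Ideal.height_bot, ← hdim, hn] at h0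
        exact zero_ne_one (α := WithBot ℕ∞) (by exact_mod_cast h0)
      · haveI := IsLocalization.AtPrime.isDiscreteValuationRing_of_dedekind_domain C h (Localization.AtPrime M)
        infer_instance
    have hsm : (⟨M, inferInstance⟩ : PrimeSpectrum C) ∈ Algebra.smoothLocus k C :=
      (Groth.Agent.S2116.result M).1 hreg
    exact ((PrimeSpectrum.le_iff_specializes q ⟨M, inferInstance⟩).1 hqM).mem_open Algebra.isOpen_smoothLocus hsm
  haveI := Algebra.smoothLocus_eq_univ_iff.1 key
  exact ⟨inferInstance, inferInstance⟩

end Groth.Agent.GeomSmoothingLib
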