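import Groth.Agent.PropPi1.LimBC
import Groth.Agent.S0591
import Groth.Agent.S2074
import Groth.Agent.S2075

/-!
A proper flat scheme over an algebra comes from a finitely generated subalgebra.
-/

set_option autoImplicit false
set_option linter.style.haveILetI false
set_option backward.isDefEq.respectTransparency false
universe u

open CategoryTheory CategoryTheory.Limits AlgebraicGeometry Opposite

namespace Groth.Agent.GeomSmoothingLib

open PropPi1

variable (k Λ : Type u) [CommRing k] [CommRing Λ] [Algebra k Λ]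

theorem exists_model {P : Scheme.{u}} (p : P ⟶ Spec (CommRingCat.of Λ)) [IsProper p] [Flat p]
    [LocallyOfFinitePresentation p] (x : Λ) :
    ∃ (A : Subalgebra k Λ) (_ : A.FG) (_ : x ∈ A) (P₀ : Scheme.{u}) (p₀ : P₀ ⟶ Spec (CommRingCat.of A))
      (g : P ⟶ P₀), IsPullback g p p₀ (Spec.map (CommRingCat.ofHom A.val.toRingHom)) ∧
      IsProper p₀ ∧ Flat p₀ ∧ LocallyOfFinitePresentation p₀ := by
  let D := fgSys k Λ
  let c := fgCone k Λ
  haveI : ∀ i, CompactSpace (D.obj i) := fun i => inferInstance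
  haveI : ∀ i, QuasiSeparatedSpace (D.obj i) := fun i => inferInstance
  obtain ⟨i, Pi, fi, gi, hlfp, hqc, hqs, hpb⟩ := Groth.Agent.S0591.result D c (isLimitFgCone k Λ) P p
  haveI := hlfp
  haveI := hqc
  haveI := hqs
  haveI : CompactSpace Pi := QuasiCompact.compactSpace_of_compactSpace fi
  haveI : QuasiSeparatedSpace Pi := quasiSeparatedSpace_of_quasiSeparated fi
  haveI : IsIso (𝟙 c.pt) := IsIso.id _
  have hY : IsPullback (c.π.app i) (𝟙 c.pt) (𝟙 (D.obj i)) (c.π.app i) :=
    IsPullback.of_vert_isIso ⟨(Category.comp_id _).trans (Category.id_comp _).symm⟩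
  obtain ⟨j, φ, Pj, Yj, fj, gj, pY, pX, hYj, hXj, hprop⟩ := Groth.Agent.S2074.result D c (isLimitFgCone k Λ) i fi
    (𝟙 (D.obj i)) p (𝟙 c.pt) (c.π.app i) gi hY hpb
  obtain ⟨l, ψ, Pl, Yl, fl, gl, qY, qX, hYl, hXl, hflat⟩ := Groth.Agent.S2075.result D c (isLimitFgCone k Λ) i fi
    (𝟙 (D.obj i)) p (𝟙 c.pt) (c.π.app i) gi hY hpb
  haveI := hprop
  haveI := hflat
  haveI : IsIso gj := hYj.isIso_snd_of_isIso
  haveI : IsIso gl := hYl.isIso_snd_of_isIso
  have hj : IsPullback pX (fj ≫ gj) (fi ≫ 𝟙 _) (D.map φ) := hXj.paste_vert hYj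
  have hl : IsPullback qX (fl ≫ gl) (fi ≫ 𝟙 _) (D.map ψ) := hXl.paste_vert hYl
  rw [Category.comp_id] at hj hl
  let A : Subalgebra k Λ := i.unop.1 ⊔ j.unop.1 ⊔ l.unop.1 ⊔ Algebra.adjoin k {x}
  let m : (FgIdx k Λ)ᵒᵖ := op ⟨A, ((i.unop.2.sup j.unop.2).sup l.unop.2).sup ⟨{x}, by simp⟩⟩
  let ai : m ⟶ i := (homOfLE (show i.unop.1 ≤ A from (le_sup_left.trans le_sup_left).trans le_sup_left)).op
  let aj : m ⟶ j := (homOfLE (show j.unop.1 ≤ A from (le_sup_right.trans le_sup_left).trans le_sup_left)).op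
  let al : m ⟶ l := (homOfLE (show l.unop.1 ≤ A from le_sup_right.trans le_sup_left)).op
  let pm := pullback.snd fi (D.map ai)
  have base : IsPullback (pullback.fst fi (D.map ai)) pm fi (D.map ai) := IsPullback.of_hasPullback _ _
  have key : ∀ {n : (FgIdx k Λ)ᵒᵖ} (a : m ⟶ n) (b : n ⟶ i) {Pn : Scheme.{u}} (p' : Pn ⟶ Pi) (fn : Pn ⟶ D.obj n),
      IsPullback p' fn fi (D.map b) → ∃ t, IsPullback t pm fn (D.map a) := by
    intro n a b Pn p' fn h
    have hab : D.map a ≫ D.map b = D.map ai := by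
      rw [← D.map_comp]
      exact congrArg D.map (Subsingleton.elim _ _)
    refine ⟨h.lift (pullback.fst _ _) (pm ≫ D.map a) (by rw [Category.assoc, hab]; exact base.w), ?_⟩
    refine IsPullback.of_right ?_ (h.lift_snd _ _ _) h
    rw [h.lift_fst, hab]
    exact base
  obtain ⟨tj, htj⟩ := key aj φ pX (fj ≫ gj) hj
  obtain ⟨tl, htl⟩ := key al ψ qX (fl ≫ gl) hl
  have hc : c.π.app m ≫ D.map ai = c.π.app i := c.w ai
  refine ⟨A, m.unop.2, ?_, _, pm, base.lift gi (p ≫ c.π.app m) (by rw [Category.assoc, hc]; exact hpb.w), ?_,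
    MorphismProperty.of_isPullback (P := @IsProper) htj inferInstance,
    MorphismProperty.of_isPullback (P := @Flat) htl inferInstance,
    MorphismProperty.of_isPullback (P := @LocallyOfFinitePresentation) base inferInstance⟩
  · exact (le_sup_right : Algebra.adjoin k {x} ≤ A) (Algebra.subset_adjoin rfl)
  · refine IsPullback.of_right ?_ (base.lift_snd _ _ _) base
    rw [base.lift_fst, show Spec.map (CommRingCat.ofHom A.val.toRingHom) ≫ D.map ai = c.π.app i from hc]
    exact hpb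

end Groth.Agent.GeomSmoothingLib
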